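import Cfsg.Agent.Lib.SECrit.Pure
import Cfsg.Agent.Lib.Solv.Component
import Cfsg.Agent.Lib.Local.Basics
import Cfsg.Agent.Lib.OddChar.FT.NoMinimal
import Cfsg.Agent.Lib.OddChar.FT.Final
import Cfsg.Prelude.Def_TwoFusion
import Cfsg.Prelude.Def_PLocal

/-!
# Consumers of the criterion: strongly closed two-subgroups, and tightly embedded subgroups over a simple socle
-/

set_option autoImplicit false
set_option linter.style.haveILetI false
set_option linter.unusedSectionVars false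

namespace Cfsg.Agent.SECrit

open Cfsg Cfsg.Agent
open Cfsg.Agent.Fusion.SEPairs (conj_involution sq_one inv_self)

universe u

variable {G : Type u} [Group G] [Finite G]

/-- A strongly closed subgroup is normalised by the normaliser of the Sylow subgroup. -/
theorem normalizer_sylow_le_of_closed {T : Sylow 2 G} {S : Subgroup G}
    (hsc : Cfsg.IsStronglyClosed S (T : Subgroup G)) :
    Subgroup.normalizer ((T : Subgroup G) : Set G) ≤ Subgroup.normalizer (S : Set G) := by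
  intro x hx
  refine Subgroup.mem_normalizer_iff.2 fun s => ⟨fun hs => hsc.2 s hs x
    ((Subgroup.mem_normalizer_iff.1 hx s).1 (hsc.1 hs)), fun h => ?_⟩
  have hT : (x * s * x⁻¹ : G) ∈ (T : Subgroup G) := hsc.1 h
  have := hsc.2 _ h x⁻¹ (by
    rw [show x⁻¹ * (x * s * x⁻¹) * x⁻¹⁻¹ = s by group]
    exact (Subgroup.mem_normalizer_iff.1 hx s).2 hT)
  rwa [show x⁻¹ * (x * s * x⁻¹) * x⁻¹⁻¹ = s by group] at this

/-- Centralisers of the involutions of a strongly closed subgroup give a pure two-central involution. -/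
theorem pure_of_closed {T : Sylow 2 G} {S : Subgroup G} (hS : S ≠ ⊥)
    (hsc : Cfsg.IsStronglyClosed S (T : Subgroup G)) {M : Subgroup G} (hM : M ≠ ⊤)
    (hC : ∀ t ∈ S, orderOf t = 2 → Subgroup.centralizer ({t} : Set G) ≤ M)
    (hN : Subgroup.normalizer ((T : Subgroup G) : Set G) ≤ M) :
    ∃ z, z ∈ S ∧ orderOf z = 2 ∧ Pure z M := by
  haveI : Fact (Nat.Prime 2) := ⟨Nat.prime_two⟩
  haveI : (S.subgroupOf (T : Subgroup G)).Normal :=
    Subgroup.normal_subgroupOf_of_le_normalizer (Subgroup.le_normalizer.trans (normalizer_sylow_le_of_closed hsc))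
  have hR : S.subgroupOf (T : Subgroup G) ≠ ⊥ := fun h => hS ((Subgroup.subgroupOf_eq_bot.1 h).eq_bot_of_le hsc.1)
  have hmeet := Small.normal_meets_center T.isPGroup' inferInstance hR
  obtain ⟨x, hx⟩ : ∃ x : ↥(S.subgroupOf (T : Subgroup G) ⊓ Subgroup.center ↥(T : Subgroup G)), orderOf x = 2 := by
    refine exists_prime_orderOf_dvd_card' 2 ?_
    obtain ⟨k, hk⟩ := IsPGroup.iff_card.1 (T.isPGroup'.to_subgroup
      (S.subgroupOf (T : Subgroup G) ⊓ Subgroup.center _))
    rw [hk]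
    exact dvd_pow_self 2 fun e => hmeet (Subgroup.card_eq_one.1 (by rw [hk, e, pow_zero]))
  set z : G := ((x : (T : Subgroup G)) : G) with hzdef
  have hz : orderOf z = 2 := by rwa [hzdef, Subgroup.orderOf_coe, Subgroup.orderOf_coe]
  have hzS : z ∈ S := Subgroup.mem_subgroupOf.1 x.2.1
  have hzT : ∀ s ∈ (T : Subgroup G), Commute s z := fun s hs =>
    congrArg Subtype.val (Subgroup.mem_center_iff.1 x.2.2 ⟨s, hs⟩)
  have hTM : (T : Subgroup G) ≤ M := fun s hs =>
    hC z hzS hz (Subgroup.mem_centralizer_singleton_iff.2 (hzT s hs).eq)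
  -- an involution of `M` is conjugate in `M` into the Sylow subgroup
  have hinto : ∀ A : Subgroup G, IsPGroup 2 A → A ≤ M → ∃ m ∈ M, ∀ a ∈ A, m * a * m⁻¹ ∈ (T : Subgroup G) := by
    intro A hA hAM
    obtain ⟨R, hR⟩ := (hA.of_equiv (Subgroup.subgroupOfEquivOfLe hAM).symm).exists_le_sylow
    obtain ⟨g, hg⟩ := MulAction.exists_smul_eq M R (T.subtype hTM)
    refine ⟨g, g.2, fun a ha => ?_⟩
    have hmem : g * ⟨a, hAM ha⟩ * g⁻¹ ∈ ((T.subtype hTM : Sylow 2 M) : Subgroup M) := by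
      rw [← hg, Sylow.coe_subgroup_smul]
      exact ⟨_, hR (Subgroup.mem_subgroupOf.2 ha), rfl⟩
    exact hmem
  have hinto1 : ∀ a : G, orderOf a = 2 → a ∈ M → ∃ m ∈ M, m * a * m⁻¹ ∈ (T : Subgroup G) := fun a ha haM => by
    obtain ⟨m, hm, h⟩ := hinto (Subgroup.zpowers a) (IsPGroup.of_card (n := 1) (by rw [Nat.card_zpowers, ha, pow_one]))
      (Subgroup.zpowers_le.2 haM)
    exact ⟨m, hm, h a (Subgroup.mem_zpowers a)⟩
  -- a conjugate of `z` in `M` comes from an element of `M`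
  have hkey : ∀ g : G, g * z * g⁻¹ ∈ M → g ∈ M := by
    intro g hg
    obtain ⟨m, hm, hmT⟩ := hinto1 _ (conj_involution hz g) hg
    have hs : (m * g) * z * (m * g)⁻¹ ∈ S := hsc.2 z hzS (m * g)
      (by rwa [show m * g * z * (m * g)⁻¹ = m * (g * z * g⁻¹) * m⁻¹ by group])
    have hle : ((T : Subgroup G).map (MulAut.conj (m * g)).toMonoidHom) ≤ M := by
      rintro _ ⟨s, hs', rfl⟩
      refine hC _ hs (conj_involution hz _) (Subgroup.mem_centralizer_singleton_iff.2 ?_)
      show m * g * s * (m * g)⁻¹ * (m * g * z * (m * g)⁻¹) = m * g * z * (m * g)⁻¹ * (m * g * s * (m * g)⁻¹)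
      calc _ = m * g * (s * z) * (m * g)⁻¹ := by group
        _ = _ := by rw [(hzT s hs').eq]; group
    obtain ⟨n, hn, hnT⟩ := hinto _ (T.isPGroup'.map _) hle
    have hnorm : n * (m * g) ∈ Subgroup.normalizer ((T : Subgroup G) : Set G) := by
      refine Fusion.mem_normalizer_of_cj_le ?_
      rintro _ ⟨s, hs', rfl⟩
      show n * (m * g) * s * (n * (m * g))⁻¹ ∈ (T : Subgroup G)
      have := hnT _ ⟨s, hs', rfl⟩
      simp only [MulEquiv.coe_toMonoidHom, MulAut.conj_apply] at this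
      rwa [show n * (m * g * s * (m * g)⁻¹) * n⁻¹ = n * (m * g) * s * (n * (m * g))⁻¹ by group] at this
    have := mul_mem (inv_mem hm) (mul_mem (inv_mem hn) (hN hnorm))
    rwa [inv_mul_cancel_left, inv_mul_cancel_left] at this
  have hW : Weak z M := ⟨hz, fun g => ⟨fun ⟨y, hy, e⟩ => by
      refine inv_mem_iff.1 (hkey g⁻¹ ?_)
      rw [← e]
      convert hy using 1
      simp [mul_assoc],
    fun hg => ⟨g⁻¹ * z * g, mul_mem (mul_mem (inv_mem hg) (hTM (hsc.1 hzS))) hg,
      by show g * (g⁻¹ * z * g) * g⁻¹ = z; group⟩⟩⟩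
  -- products of commuting conjugates in `M` are conjugate into `S`
  have hclose : ∀ A : Subgroup G, IsPGroup 2 A → A ≤ M → ∃ m ∈ M, ∀ a ∈ A, IsConj z a → m * a * m⁻¹ ∈ S := by
    intro A hA hAM
    obtain ⟨m, hm, h⟩ := hinto A hA hAM
    refine ⟨m, hm, fun a ha hza => ?_⟩
    obtain ⟨g, rfl⟩ := isConj_iff.1 hza
    have := hsc.2 z hzS (m * g) (by
      rw [show m * g * z * (m * g)⁻¹ = m * (g * z * g⁻¹) * m⁻¹ by group]
      exact h _ ha)
    rwa [show m * g * z * (m * g)⁻¹ = m * (g * z * g⁻¹) * m⁻¹ by group] at this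
  have hfin : ∀ m ∈ M, ∀ w : G, orderOf w = 2 → m * w * m⁻¹ ∈ S → Subgroup.centralizer ({w} : Set G) ≤ M := by
    intro m hm w hw hwS x hx
    have h1 : m * x * m⁻¹ ∈ M := hC _ hwS (conj_involution hw m) (Subgroup.mem_centralizer_singleton_iff.2 (by
      have h2 := Subgroup.mem_centralizer_singleton_iff.1 hx
      calc m * x * m⁻¹ * (m * w * m⁻¹) = m * (x * w) * m⁻¹ := by group
        _ = _ := by rw [h2]; group))
    have := mul_mem (mul_mem (inv_mem hm) h1) hm
    rwa [show m⁻¹ * (m * x * m⁻¹) * m = x by group] at this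
  have hord : ∀ a : G, IsConj z a → orderOf a = 2 := fun a ha => by
    obtain ⟨g, rfl⟩ := isConj_iff.1 ha; exact conj_involution hz g
  have hPP : PairPure z M := by
    refine ⟨hW, ⟨T, ⟨⟨z, hsc.1 hzS⟩, Subgroup.mem_center_iff.2 fun y => Subtype.ext (hzT y y.2).eq, rfl⟩⟩, hM,
      fun a b ha hb hab hne haM => ?_⟩
    have hbM : b ∈ M := by
      obtain ⟨g, rfl⟩ := isConj_iff.1 ha
      obtain ⟨h, rfl⟩ := isConj_iff.1 hb
      have h1 := hW.same_coset hab
      have := mul_mem (hW.conj_mem_iff.1 haM) h1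
      rw [mul_inv_cancel_left] at this
      exact hW.conj_mem_iff.2 this
    have hAp : IsPGroup 2 (Subgroup.zpowers a ⊔ Subgroup.zpowers b : Subgroup G) :=
      (IsPGroup.of_card (n := 1) (by rw [Nat.card_zpowers, hord a ha, pow_one])).to_sup_of_normal_left'
        (IsPGroup.of_card (n := 1) (by rw [Nat.card_zpowers, hord b hb, pow_one]))
        (Subgroup.zpowers_le.2 (Subgroup.centralizer_le_normalizer _ (Subgroup.mem_centralizer_iff.2 fun y hy => by
          obtain ⟨j, rfl⟩ := hy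
          exact (hab.zpow_left j).eq)))
    obtain ⟨m, hm, h⟩ := hclose _ hAp (sup_le (Subgroup.zpowers_le.2 haM) (Subgroup.zpowers_le.2 hbM))
    refine hfin m hm (a * b) (orderOf_eq_prime
      (by rw [hab.mul_pow, pow_two, pow_two, sq_one (hord a ha), sq_one (hord b hb), one_mul])
      fun e => hne (by rw [eq_inv_of_mul_eq_one_left e, inv_self (hord b hb)])) ?_
    have := mul_mem (h a (Subgroup.mem_sup_left (Subgroup.mem_zpowers a)) ha)
      (h b (Subgroup.mem_sup_right (Subgroup.mem_zpowers b)) hb)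
    rwa [show m * a * m⁻¹ * (m * b * m⁻¹) = m * (a * b) * m⁻¹ by group] at this
  refine ⟨z, hzS, hz, hPP, fun a b c ha hb hc hab hac hbc haM hw => ?_⟩
  have hbM := hPP.mem_of_commute ha haM hab.symm
  have hcM := hPP.mem_of_commute ha haM hac.symm
  have hAp : IsPGroup 2 (Subgroup.zpowers a ⊔ Subgroup.zpowers b ⊔ Subgroup.zpowers c : Subgroup G) := by
    refine ((IsPGroup.of_card (n := 1) (by rw [Nat.card_zpowers, hord a ha, pow_one])).to_sup_of_normal_left'
      (IsPGroup.of_card (n := 1) (by rw [Nat.card_zpowers, hord b hb, pow_one]))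
      (Subgroup.zpowers_le.2 (Subgroup.centralizer_le_normalizer _ (Subgroup.mem_centralizer_iff.2 fun y hy => by
          obtain ⟨j, rfl⟩ := hy
          exact (hab.zpow_left j).eq)))).to_sup_of_normal_left'
      (IsPGroup.of_card (n := 1) (by rw [Nat.card_zpowers, hord c hc, pow_one])) ?_
    refine Subgroup.zpowers_le.2 (Subgroup.centralizer_le_normalizer _ (Subgroup.mem_centralizer_iff.2 fun y hy => ?_))
    have hle : (Subgroup.zpowers a ⊔ Subgroup.zpowers b : Subgroup G) ≤ Subgroup.centralizer ({c} : Set G) :=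
      sup_le (Subgroup.zpowers_le.2 (Subgroup.mem_centralizer_singleton_iff.2 hac.eq))
        (Subgroup.zpowers_le.2 (Subgroup.mem_centralizer_singleton_iff.2 hbc.eq))
    exact Subgroup.mem_centralizer_singleton_iff.1 (hle hy)
  obtain ⟨m, hm, h⟩ := hclose _ hAp (sup_le (sup_le (Subgroup.zpowers_le.2 haM) (Subgroup.zpowers_le.2 hbM))
    (Subgroup.zpowers_le.2 hcM))
  refine hfin m hm _ hw ?_
  have := mul_mem (mul_mem (h a (Subgroup.mem_sup_left (Subgroup.mem_sup_left (Subgroup.mem_zpowers a))) ha)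
    (h b (Subgroup.mem_sup_left (Subgroup.mem_sup_right (Subgroup.mem_zpowers b))) hb))
    (h c (Subgroup.mem_sup_right (Subgroup.mem_zpowers c)) hc)
  rwa [show m * a * m⁻¹ * (m * b * m⁻¹) * (m * c * m⁻¹) = m * (a * b * c) * m⁻¹ by group] at this

/-- The statement S1174 from the criterion. -/
theorem closed_simple_concl (crit : Crit.{u}) [IsSimpleGroup G] (S : Sylow 2 G) (T : Subgroup G) (hT1 : T ≠ ⊥)
    (hT : Cfsg.IsStronglyClosed T (S : Subgroup G))
    (hprop : (⨆ t : {t : G // t ∈ T ∧ orderOf t = 2}, Subgroup.centralizer ({(t : G)} : Set G)) ≠ ⊤) :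
    ∃ H : Subgroup G, Cfsg.IsStronglyEmbedded H := by
  haveI : Fact (Nat.Prime 2) := ⟨Nat.prime_two⟩
  set H₀ := ⨆ t : {t : G // t ∈ T ∧ orderOf t = 2}, Subgroup.centralizer ({(t : G)} : Set G)
  have hle : ∀ t ∈ T, orderOf t = 2 → Subgroup.centralizer ({t} : Set G) ≤ H₀ := fun t h1 h2 =>
    le_iSup (fun t : {t : G // t ∈ T ∧ orderOf t = 2} => Subgroup.centralizer ({(t : G)} : Set G)) ⟨t, h1, h2⟩
  obtain ⟨k, hk⟩ := IsPGroup.iff_card.1 (S.isPGroup'.to_le hT.1)
  obtain ⟨t₀, ht₀⟩ := exists_prime_orderOf_dvd_card' (G := T) 2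
    (hk ▸ dvd_pow_self 2 fun e => hT1 (Subgroup.card_eq_one.1 (by rw [hk, e, pow_zero])))
  have ht₀' : orderOf (t₀ : G) = 2 := by rwa [Subgroup.orderOf_coe]
  have hne : H₀ ≠ ⊥ := fun e => SEB.ne_one_of_invol ht₀' (Subgroup.mem_bot.1
    (e ▸ hle _ t₀.2 ht₀' (Subgroup.mem_centralizer_singleton_iff.2 rfl)))
  set M := Subgroup.normalizer (H₀ : Set G)
  have hM : M ≠ ⊤ := fun e => by
    rcases (Subgroup.normalizer_eq_top_iff.1 e).eq_bot_or_eq_top with h | h
    exacts [hne h, hprop h]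
  have hN : Subgroup.normalizer ((S : Subgroup G) : Set G) ≤ M := by
    intro x hx
    have hxT := normalizer_sylow_le_of_closed hT hx
    have key : ∀ y : G, y ∈ Subgroup.normalizer (T : Set G) → H₀ ≤ H₀.comap (MulAut.conj y).toMonoidHom := by
      intro y hy
      refine iSup_le fun t c hc => ?_
      refine hle (y * t * y⁻¹) ((Subgroup.mem_normalizer_iff.1 hy _).1 t.2.1) (conj_involution t.2.2 y)
        (Subgroup.mem_centralizer_singleton_iff.2 ?_)
      show y * c * y⁻¹ * (y * (t : G) * y⁻¹) = y * (t : G) * y⁻¹ * (y * c * y⁻¹)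
      calc y * c * y⁻¹ * (y * (t : G) * y⁻¹) = y * (c * t) * y⁻¹ := by group
        _ = _ := by rw [Subgroup.mem_centralizer_singleton_iff.1 hc]; group
    refine Subgroup.mem_normalizer_iff.2 fun c => ⟨fun hc => key x hxT hc, fun hc => ?_⟩
    have h := key x⁻¹ (inv_mem hxT) hc
    rwa [Subgroup.mem_comap, MulEquiv.coe_toMonoidHom, MulAut.conj_apply,
      show x⁻¹ * (x * c * x⁻¹) * x⁻¹⁻¹ = c by group] at h
  obtain ⟨z, -, hz, hP⟩ := pure_of_closed hT1 hT hM
    (fun t h1 h2 => (hle t h1 h2).trans Subgroup.le_normalizer) hN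
  have h := pure_concl crit G z M hP
  have htop : Subgroup.normalClosure ({z} : Set G) = ⊤ :=
    Subgroup.normalClosure_normal.eq_bot_or_eq_top.resolve_left fun e => SEB.ne_one_of_invol hz
      (Subgroup.mem_bot.1 (e ▸ Subgroup.subset_normalClosure (Set.mem_singleton z)))
  rw [htop] at h
  exact ⟨M, se_of_top h⟩

/-- The statement S3121 from the criterion. -/
theorem tight_socle_concl (crit : Crit.{u}) (hF : IsSimpleGroup ↥(Cfsg.generalizedFittingSubgroup G))
    (hF' : ¬ IsMulCommutative ↥(Cfsg.generalizedFittingSubgroup G))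
    (H : Subgroup G) (hH : Cfsg.IsTightlyEmbedded H)
    (hodd : ∀ g : G, g ∉ Subgroup.normalizer (H : Set G) →
      Odd (Nat.card ↥(H.map (MulAut.conj g).toMonoidHom ⊓ Subgroup.normalizer (H : Set G)))) :
    H.Normal ∨ ∃ M : Subgroup ↥(Cfsg.generalizedFittingSubgroup G), Cfsg.IsStronglyEmbedded M := by
  haveI : Fact (Nat.Prime 2) := ⟨Nat.prime_two⟩
  rcases tight_concl crit G H ⟨hH, hodd⟩ with h | hse
  · exact Or.inl h
  by_cases hne : Subgroup.normalizer (H : Set G) = ⊤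
  · exact Or.inl (Subgroup.normalizer_eq_top_iff.1 hne)
  set F := Cfsg.generalizedFittingSubgroup G
  set N := Subgroup.normalizer (H : Set G)
  haveI hFn : F.Normal := Local.gfit_normal
  haveI := hF
  have hT : Tight H := ⟨hH, hodd⟩
  obtain ⟨P, z, hP, hz, hzH, -⟩ := hT.exists_sylow
  -- an involution of the socle in the normaliser
  have hFeven : 2 ∣ Nat.card F := by
    by_contra h
    haveI : Group.IsSolvable F :=
      OddFT.odd_solvable_of_no_min (fun X _ _ h => OddFT.no_minSimple X h) (Nat.odd_iff.2 (Nat.two_dvd_ne_zero.1 h))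
    exact hF' ⟨⟨fun a b => IsSimpleGroup.comm_iff_isSolvable.2 inferInstance a b⟩⟩
  obtain ⟨S₀, hS₀⟩ := ((Fusion.sylIn_top P).inf_normal (N := F) le_top
    (by rw [Subgroup.normalizer_eq_top_iff.2 inferInstance])).exists_sylow_subgroupOf
  obtain ⟨t₀, ht₀⟩ := exists_prime_orderOf_dvd_card' (G := (S₀ : Subgroup F)) 2 (S₀.dvd_card_of_dvd_card hFeven)
  set t : G := ((t₀ : F) : G) with htdef
  have ht : orderOf t = 2 := by rwa [htdef, Subgroup.orderOf_coe, Subgroup.orderOf_coe]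
  have htN : t ∈ N := by
    have h1 : (t₀ : F) ∈ ((P : Subgroup G) ⊓ F).subgroupOf F := hS₀ ▸ t₀.2
    exact hP (Subgroup.mem_subgroupOf.1 h1).1
  -- `F` lies in the normal closure
  set K := Subgroup.normalClosure (H : Set G)
  haveI : K.Normal := Subgroup.normalClosure_normal
  have hcases : ∀ J : Subgroup G, J ≤ F → (∀ x ∈ F, ∀ y ∈ J, x * y * x⁻¹ ∈ J) → J = ⊥ ∨ F ≤ J := fun J hJF hJ => by
    haveI : (J.subgroupOf F).Normal := ⟨fun y hy x => Subgroup.mem_subgroupOf.2
      (hJ x x.2 y (Subgroup.mem_subgroupOf.1 hy))⟩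
    rcases (inferInstance : (J.subgroupOf F).Normal).eq_bot_or_eq_top with h | h
    · exact Or.inl ((Subgroup.subgroupOf_eq_bot.1 h).eq_bot_of_le hJF)
    · exact Or.inr (Subgroup.subgroupOf_eq_top.1 h)
  have hcent : ∀ J : Subgroup G, (∀ x ∈ F, ∀ y ∈ J, x * y * x⁻¹ ∈ J) → (∀ y ∈ J, ∀ x ∈ F, y * x * y⁻¹ ∈ F) →
      J ≠ ⊥ → F ≤ J := fun J hJ hJF hJne => by
    rcases hcases (J ⊓ F) inf_le_right (fun x hx y hy => ⟨hJ x hx y hy.1, hFn.conj_mem y hy.2 x⟩) with h | h
    · refine absurd ((Subgroup.eq_bot_iff_forall J).2 fun y hy => ?_) hJne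
      have hc : y ∈ Subgroup.centralizer (F : Set G) := Subgroup.mem_centralizer_iff.2 fun x hx => by
        have h1 : x * y * x⁻¹ * y⁻¹ ∈ J ⊓ F := Subgroup.mem_inf.2 ⟨mul_mem (hJ x hx y hy) (inv_mem hy), by
          rw [show x * y * x⁻¹ * y⁻¹ = x * (y * x⁻¹ * y⁻¹) by group]
          exact mul_mem hx (hJF y hy _ (F.inv_mem hx))⟩
        rw [h, Subgroup.mem_bot, mul_inv_eq_one] at h1
        exact mul_inv_eq_iff_eq_mul.1 h1
      have h2 : y ∈ J ⊓ F := ⟨hy, Solv.centralizer_gfit_le hc⟩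
      rwa [h, Subgroup.mem_bot] at h2
    · exact h.trans inf_le_left
  have hFK : F ≤ K := hcent K (fun x _ y hy => (inferInstance : K.Normal).conj_mem y hy x)
    (fun y _ x hx => hFn.conj_mem x hx y)
    fun e => SEB.ne_one_of_invol hz (Subgroup.mem_bot.1 (e ▸ Subgroup.subset_normalClosure hzH))
  have hFN : ¬ F ≤ N := fun hle => by
    have hFH : F ≤ H := hcent H (fun x hx y hy => hT.conj_Q (hle hx) hy) (fun y _ x hx => hFn.conj_mem x hx y)
      fun e => SEB.ne_one_of_invol hz (Subgroup.mem_bot.1 (e ▸ hzH))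
    refine hne (top_le_iff.1 fun g _ => hT.mem_of_invol ht (hFH (t₀ : F).2) ?_)
    exact hle (hFn.conj_mem t (t₀ : F).2 g)
  exact Or.inr ⟨N.subgroupOf F, se_restrict hFK hse hFN ht (t₀ : F).2 htN⟩

end Cfsg.Agent.SECrit
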