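import Cfsg.Agent.Lib.SECrit.Tight
import Cfsg.Agent.S1922

/-!
# A two-central involution whose products with commuting conjugates have centralisers in a weakly embedded subgroup

If the centralisers of such products of two, and of three, commuting conjugates stay inside, the local hypothesis of
the criterion holds by induction; in a simple group the statement for three follows from that for two.
-/

set_option autoImplicit false
set_option linter.style.haveILetI false
set_option linter.unusedSectionVars false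

namespace Cfsg.Agent.SECrit

open Cfsg Cfsg.Agent
open Cfsg.Agent.Fusion.SEPairs (conj_involution sq_one inv_self smul_mk_eq_iff)

universe u

variable {G : Type u} [Group G] [Finite G]

/-- The hypotheses on pairs of commuting conjugates. -/
structure PairPure (z : G) (M : Subgroup G) : Prop where
  weakly : Weak z M
  central : ∃ P : Sylow 2 G, z ∈ (Subgroup.center ↥(P : Subgroup G)).map (P : Subgroup G).subtype
  proper : M ≠ ⊤
  pair : ∀ a b : G, IsConj z a → IsConj z b → Commute a b → a ≠ b → a ∈ M →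
    Subgroup.centralizer ({a * b} : Set G) ≤ M

/-- The hypotheses on triples. -/
structure Pure (z : G) (M : Subgroup G) : Prop extends PairPure z M where
  triple : ∀ a b c : G, IsConj z a → IsConj z b → IsConj z c → Commute a b → Commute a c → Commute b c →
    a ∈ M → orderOf (a * b * c) = 2 → Subgroup.centralizer ({a * b * c} : Set G) ≤ M

/-- A conjugate of the first of two involutions with product of odd order, exchanging them, invariant under an
involution exchanging them. -/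
theorem exists_swap {a b w : G} (ha : orderOf a = 2) (hb : orderOf b = 2) (h : Odd (orderOf (a * b)))
    (hab : w * a * w⁻¹ = b) (hba : w * b * w⁻¹ = a) :
    ∃ i, IsConj a i ∧ i * a * i⁻¹ = b ∧ Commute w i := by
  obtain ⟨k, hk⟩ := h
  set s := a * b with hs
  have hsn : ∀ j : ℕ, s ^ (j + (2 * k + 1)) = s ^ j := fun j => by
    rw [pow_add, ← hk, pow_orderOf_eq_one, mul_one]
  have hflip : ∀ j : ℕ, a * s ^ j * a⁻¹ = (s ^ j)⁻¹ := fun j => by
    rw [← conj_pow, ← inv_pow, hs, show a * (a * b) * a⁻¹ = (a * a) * b * a⁻¹ by group, sq_one ha, one_mul,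
      mul_inv_rev, inv_self hb, inv_self ha]
  set j := k * (k + 1)
  set i := s ^ j * a * (s ^ j)⁻¹ with hi
  have hi' : i = (s ^ (2 * j + 1)) * b := by
    rw [hi, show s ^ j * a * (s ^ j)⁻¹ = s ^ j * (a * (s ^ j)⁻¹ * a⁻¹) * a by group,
      show a * (s ^ j)⁻¹ * a⁻¹ = (a * s ^ j * a⁻¹)⁻¹ by group, hflip, inv_inv, ← pow_add, ← two_mul,
      pow_succ, hs, mul_assoc (_ ^ _), mul_assoc a, sq_one hb, mul_one]
  have hi2 : i = a * s ^ (k + 1) := by
    rw [hi, show s ^ j * a * (s ^ j)⁻¹ = a * (a⁻¹ * s ^ j * a) * (s ^ j)⁻¹ by group,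
      show a⁻¹ * s ^ j * a = a * s ^ j * a⁻¹ by rw [inv_self ha], hflip, mul_assoc, ← mul_inv_rev, ← pow_add,
      mul_right_inj, inv_eq_iff_mul_eq_one, ← pow_add,
      show j + j + (k + 1) = (2 * k + 1) * (k + 1) by simp only [j]; ring, pow_mul, ← hk, pow_orderOf_eq_one, one_pow]
  refine ⟨i, isConj_iff.2 ⟨s ^ j, rfl⟩, ?_, mul_inv_eq_iff_eq_mul.1 ?_⟩
  · rw [hi2, show a * s ^ (k + 1) * a * (a * s ^ (k + 1))⁻¹ = (a * s ^ (k + 1) * a⁻¹) * (a * a) * (s ^ (k + 1))⁻¹ * a⁻¹
      by group, hflip, sq_one ha, mul_one, ← mul_inv_rev, ← pow_add, show k + 1 + (k + 1) = 1 + (2 * k + 1) by omega,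
      hsn, pow_one, hs, mul_inv_rev, inv_self hb, inv_self ha, mul_assoc, sq_one ha, mul_one]
  · have hw : w * s * w⁻¹ = s⁻¹ := by
      rw [hs, mul_inv_rev, inv_self hb, inv_self ha, show w * (a * b) * w⁻¹ = w * a * w⁻¹ * (w * b * w⁻¹) by group,
        hab, hba]
    rw [hi2, show w * (a * s ^ (k + 1)) * w⁻¹ = w * a * w⁻¹ * (w * s ^ (k + 1) * w⁻¹) by group, hab, ← conj_pow, hw,
      show b = a * s by rw [hs, ← mul_assoc, sq_one ha, one_mul], mul_assoc, mul_right_inj, inv_pow,
      mul_inv_eq_iff_eq_mul, ← pow_add, ← pow_one s, ← pow_mul, one_mul]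
    rw [show k + 1 + (k + 1) = 1 + (2 * k + 1) by omega, hsn]

namespace PairPure

variable {z : G} {M : Subgroup G} (hP : PairPure z M)
include hP

theorem orderOf_conj {a : G} (ha : IsConj z a) : orderOf a = 2 := by
  obtain ⟨g, rfl⟩ := isConj_iff.1 ha
  exact conj_involution hP.weakly.invol g

theorem centralizer_conj_le {a : G} (ha : IsConj z a) (haM : a ∈ M) : Subgroup.centralizer ({a} : Set G) ≤ M := by
  obtain ⟨g, rfl⟩ := isConj_iff.1 ha
  have hg := hP.weakly.conj_mem_iff.1 haM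
  intro x hx
  have h1 : g⁻¹ * x * g ∈ M := hP.weakly.centralizer_le (Subgroup.mem_centralizer_singleton_iff.2 (by
    have h2 := Subgroup.mem_centralizer_singleton_iff.1 hx
    calc g⁻¹ * x * g * z = g⁻¹ * (x * (g * z * g⁻¹)) * g := by group
      _ = _ := by rw [h2]; group))
  have := mul_mem (mul_mem hg h1) (inv_mem hg)
  rwa [show g * (g⁻¹ * x * g) * g⁻¹ = x by group] at this

theorem mem_of_commute {a b : G} (ha : IsConj z a) (haM : a ∈ M) (hc : Commute b a) : b ∈ M :=
  hP.centralizer_conj_le ha haM (Subgroup.mem_centralizer_singleton_iff.2 hc.eq)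

theorem sylow_le : ∃ P : Sylow 2 G, (P : Subgroup G) ≤ Subgroup.centralizer {z} ∧ z ∈ (P : Subgroup G) := by
  obtain ⟨P, w, hw, rfl⟩ := hP.central
  exact ⟨P, fun x hx => Subgroup.mem_centralizer_singleton_iff.2
    (congrArg Subtype.val (Subgroup.mem_center_iff.1 hw ⟨x, hx⟩)), w.2⟩

theorem exists_commuting {x : G} (hx : orderOf x = 2) (hxM : x ∈ M) :
    ∃ h ∈ M, Commute (h * z * h⁻¹) x := by
  haveI : Fact (Nat.Prime 2) := ⟨Nat.prime_two⟩
  obtain ⟨P, hPz, -⟩ := hP.sylow_le
  have hPM : (P : Subgroup G) ≤ M := hPz.trans hP.weakly.centralizer_le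
  obtain ⟨R, hR⟩ := (IsPGroup.of_card (n := 1) (G := Subgroup.zpowers (⟨x, hxM⟩ : M))
    (by rw [Nat.card_zpowers, Subgroup.orderOf_mk, hx, pow_one])).exists_le_sylow
  obtain ⟨g, hg⟩ := MulAction.exists_smul_eq M R (P.subtype hPM)
  have hmem : g * ⟨x, hxM⟩ * g⁻¹ ∈ ((P.subtype hPM : Sylow 2 M) : Subgroup M) := by
    rw [← hg, Sylow.coe_subgroup_smul]
    exact ⟨_, hR (Subgroup.mem_zpowers _), rfl⟩
  have hc : Commute ((g : G) * x * (g : G)⁻¹) z := Subgroup.mem_centralizer_singleton_iff.1 (hPz hmem)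
  refine ⟨(g : G)⁻¹, inv_mem g.2, ?_⟩
  have h1 := hc.symm.map (MulAut.conj (g : G)⁻¹).toMonoidHom
  simp only [MulEquiv.coe_toMonoidHom, MulAut.conj_apply] at h1
  rwa [show (g : G)⁻¹ * ((g : G) * x * (g : G)⁻¹) * (g : G)⁻¹⁻¹ = x by group] at h1

/-- Conjugates at different points have product of odd order. -/
theorem odd_mul {a b : G} (ha : IsConj z a) (hb : IsConj z b) (haM : a ∈ M) (hbM : b ∉ M) :
    Odd (orderOf (a * b)) := by
  by_contra he
  obtain ⟨w, hw, hwa, hwb, hcl⟩ := S1922.even_class (hP.orderOf_conj ha) (hP.orderOf_conj hb) he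
  have haw : IsConj z (a * w) := hcl.elim ha.trans hb.trans
  have hne : a ≠ a * w := fun e => SEB.ne_one_of_invol hw (mul_left_cancel (a := a) (by rw [mul_one]; exact e.symm))
  refine hbM (hP.pair a (a * w) ha haw ((Commute.refl a).mul_right hwa.symm) hne haM
    (Subgroup.mem_centralizer_singleton_iff.2 ?_))
  rw [show a * (a * w) = w by rw [← mul_assoc, sq_one (hP.orderOf_conj ha), one_mul]]
  exact hwb.symm.eq

theorem exists_middle {a b x : G} (ha : IsConj z a) (hb : IsConj z b) (haM : a ∈ M) (hbM : b ∉ M)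
    (hax : Commute a x) (hbx : Commute b x) : ∃ k, Commute k x ∧ k * a * k⁻¹ = b := by
  obtain ⟨i, -, hi, hc⟩ := Fusion.SEPairs.exists_middle (hP.orderOf_conj ha) (hP.orderOf_conj hb)
    (hP.odd_mul ha hb haM hbM)
  exact ⟨i, (hc x hax.symm hbx.symm).symm, hi⟩

/-- The conjugates of `z` commuting with `u` are conjugate under its centraliser. -/
theorem class_in_centralizer {u : G} (huz : Commute z u) (hnle : ¬ Subgroup.centralizer ({u} : Set G) ≤ M)
    {d : G} (hd : IsConj z d) (hdu : Commute d u) : ∃ k, Commute k u ∧ k * z * k⁻¹ = d := by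
  by_cases hdM : d ∈ M
  · obtain ⟨c, hc, hcM⟩ := SetLike.not_le_iff_exists.1 hnle
    have hcu : Commute c u := Subgroup.mem_centralizer_singleton_iff.1 hc
    have hy : IsConj z (c * z * c⁻¹) := isConj_iff.2 ⟨c, rfl⟩
    have hyM : c * z * c⁻¹ ∉ M := fun h => hcM (hP.weakly.conj_mem_iff.1 h)
    obtain ⟨k, hk, hke⟩ := hP.exists_middle hd hy hdM hyM hdu ((hcu.mul_left huz).mul_left hcu.inv_left)
    refine ⟨k⁻¹ * c, hk.inv_left.mul_left hcu, ?_⟩
    rw [show k⁻¹ * c * z * (k⁻¹ * c)⁻¹ = k⁻¹ * (c * z * c⁻¹) * k by group, ← hke]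
    group
  · exact hP.exists_middle (IsConj.refl z) hd hP.weakly.mem hdM huz hdu

/-- With a faithful action the hypothesis on triples follows. -/
theorem pure_of_faithful (hN : M.normalCore = ⊥) : Pure z M := by
  refine ⟨hP, fun a b c ha hb hc hab hac hbc haM hw => ?_⟩
  have ha2 := hP.orderOf_conj ha
  have hb2 := hP.orderOf_conj hb
  have hbM := hP.mem_of_commute ha haM hab.symm
  have hcM := hP.mem_of_commute ha haM hac.symm
  by_cases e1 : a = b
  · rw [← e1, sq_one ha2, one_mul]; exact hP.centralizer_conj_le hc hcM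
  by_cases e2 : a = c
  · rw [← e2, hab.eq, mul_assoc, sq_one ha2, mul_one]; exact hP.centralizer_conj_le hb hbM
  by_cases e3 : b = c
  · rw [← e3, mul_assoc, sq_one hb2, mul_one]; exact hP.centralizer_conj_le ha haM
  by_contra hnle
  set w := a * b * c with hwdef
  have hwa : Commute a w := ((Commute.refl a).mul_right hab).mul_right hac
  have hwM : w ∈ M := mul_mem (mul_mem haM hbM) hcM
  -- `w` moves a point
  obtain ⟨y, hy⟩ : ∃ y : G, y⁻¹ * w * y ∉ M := by
    by_contra h
    push Not at h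
    have h1 : w ∈ M.normalCore := fun g => by
      have := h g⁻¹
      rwa [inv_inv] at this
    rw [hN, Subgroup.mem_bot] at h1
    exact SEB.ne_one_of_invol hw h1
  set a' := y * z * y⁻¹ with ha'
  set b' := w * a' * w⁻¹ with hb'
  have hodd : Odd (orderOf (a' * b')) := by
    have h := hP.odd_mul (IsConj.refl z) (b := y⁻¹ * w * y * z * (y⁻¹ * w * y)⁻¹) (isConj_iff.2 ⟨_, rfl⟩)
      hP.weakly.mem fun h => hy (hP.weakly.conj_mem_iff.1 h)
    rwa [← orderOf_injective (MulAut.conj y).toMonoidHom (MulAut.conj y).injective,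
      show (MulAut.conj y).toMonoidHom (z * (y⁻¹ * w * y * z * (y⁻¹ * w * y)⁻¹)) = a' * b' by
        simp only [MulEquiv.coe_toMonoidHom, MulAut.conj_apply, ha', hb']; group] at h
  have hww : w * w = 1 := sq_one hw
  obtain ⟨i, hai, hiab, hwi⟩ := exists_swap (w := w) (conj_involution hP.weakly.invol y)
    (conj_involution (conj_involution hP.weakly.invol y) w) hodd rfl (by
      rw [show w * (w * a' * w⁻¹) * w⁻¹ = (w * w) * a' * (w * w)⁻¹ by group, hww, one_mul, inv_one, mul_one])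
  have hi : IsConj z i := (isConj_iff.2 ⟨y, rfl⟩ : IsConj z a').trans hai
  have hfix : y⁻¹ * (i * w) * y ∈ M := by
    refine hP.weakly.centralizer_le (Subgroup.mem_centralizer_singleton_iff.2 ?_)
    have hi2 := hP.orderOf_conj hi
    have e : (i * w) * a' * (i * w)⁻¹ = a' := by
      rw [show (i * w) * a' * (i * w)⁻¹ = i * b' * i⁻¹ by rw [hb']; group, ← (show i * a' * i⁻¹ = b' from hiab),
        show i * (i * a' * i⁻¹) * i⁻¹ = (i * i) * a' * (i * i)⁻¹ by group, sq_one hi2, one_mul, inv_one, mul_one]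
    calc y⁻¹ * (i * w) * y * z = y⁻¹ * ((i * w) * a' * (i * w)⁻¹) * (i * w) * y := by rw [ha']; group
      _ = _ := by rw [e, ha']; group
  -- move `i` to `a`
  obtain ⟨zc, hzc, hzc'⟩ : ∃ k₁, IsConj z (k₁ * z * k₁⁻¹) ∧ a = k₁ * z * k₁⁻¹ := by
    obtain ⟨g, hg⟩ := isConj_iff.1 ha
    exact ⟨g, isConj_iff.2 ⟨g, rfl⟩, hg.symm⟩
  obtain ⟨k, hk, hki⟩ : ∃ k, Commute k w ∧ k * i * k⁻¹ = a := by
    by_cases hiM : i ∈ M
    · obtain ⟨c₀, hc₀, hc₀M⟩ := SetLike.not_le_iff_exists.1 hnle
      have hcu : Commute c₀ w := Subgroup.mem_centralizer_singleton_iff.1 hc₀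
      have hd : IsConj z (c₀ * a * c₀⁻¹) := ha.trans (isConj_iff.2 ⟨c₀, rfl⟩)
      have hdM : c₀ * a * c₀⁻¹ ∉ M := fun h => hc₀M (by
        rw [hzc', show c₀ * (zc * z * zc⁻¹) * c₀⁻¹ = c₀ * zc * z * (c₀ * zc)⁻¹ by group] at h
        have h2 := mul_mem (hP.weakly.conj_mem_iff.1 h) (inv_mem (hP.weakly.conj_mem_iff.1 (hzc' ▸ haM)))
        rwa [mul_inv_cancel_right] at h2)
      obtain ⟨k₁, hk₁, hk₁e⟩ := hP.exists_middle hi hd hiM hdM hwi.symm ((hcu.mul_left hwa).mul_left hcu.inv_left)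
      refine ⟨c₀⁻¹ * k₁, hcu.inv_left.mul_left hk₁, ?_⟩
      rw [show c₀⁻¹ * k₁ * i * (c₀⁻¹ * k₁)⁻¹ = c₀⁻¹ * (k₁ * i * k₁⁻¹) * c₀ by group, hk₁e]
      group
    · obtain ⟨k₁, hk₁, hk₁e⟩ := hP.exists_middle ha hi haM hiM hwa hwi.symm
      refine ⟨k₁⁻¹, hk₁.inv_left, ?_⟩
      rw [← hk₁e]
      group
  set x := k * y with hx
  have h1 : x⁻¹ * (b * c) * x ∈ M := by
    have e : b * c = k * (i * w) * k⁻¹ := by
      rw [show k * (i * w) * k⁻¹ = k * i * k⁻¹ * (k * w * k⁻¹) by group, hki, hk.eq, mul_inv_cancel_right, hwdef,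
        ← mul_assoc, ← mul_assoc, sq_one ha2, one_mul]
    rwa [hx, e, show (k * y)⁻¹ * (k * (i * w) * k⁻¹) * (k * y) = y⁻¹ * (i * w) * y by group]
  have hbc2 : orderOf (x⁻¹ * (b * c) * x) = 2 := by
    have h := conj_involution (orderOf_eq_prime (p := 2)
      (by rw [hbc.mul_pow, pow_two, pow_two, sq_one hb2, sq_one (hP.orderOf_conj hc), one_mul])
      (fun e => e3 (by rw [eq_inv_of_mul_eq_one_left e, inv_self (hP.orderOf_conj hc)]))) x⁻¹
    rwa [inv_inv] at h
  obtain ⟨h, hhM, hh⟩ := hP.exists_commuting hbc2 h1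
  have h2 : (x * h) * z * (x * h)⁻¹ ∈ M := by
    refine hP.pair b c hb hc hbc e3 hbM (Subgroup.mem_centralizer_singleton_iff.2 ?_)
    calc x * h * z * (x * h)⁻¹ * (b * c) = x * ((h * z * h⁻¹) * (x⁻¹ * (b * c) * x)) * x⁻¹ := by group
      _ = _ := by rw [hh.eq]; group
  have hxM : x ∈ M := by
    have := mul_mem (hP.weakly.conj_mem_iff.1 h2) (inv_mem hhM)
    rwa [mul_inv_cancel_right] at this
  refine hy ?_
  have h3 := mul_mem (mul_mem (inv_mem hxM) hwM) hxM
  rwa [hx, show (k * y)⁻¹ * w * (k * y) = y⁻¹ * (k⁻¹ * (w * k)) * y by group, ← hk.eq, inv_mul_cancel_left] at h3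

end PairPure

namespace Pure

variable {z : G} {M : Subgroup G} (hP : Pure z M)
include hP

theorem to_centralizer {u : G} (hu : orderOf u = 2) (huz : Commute z u) (hnle : ¬ Subgroup.centralizer ({u} : Set G) ≤ M)
    (hzC : z ∈ Subgroup.centralizer ({u} : Set G)) :
    Pure (⟨z, hzC⟩ : Subgroup.centralizer ({u} : Set G)) (M.subgroupOf _) := by
  haveI : Fact (Nat.Prime 2) := ⟨Nat.prime_two⟩
  set C := Subgroup.centralizer ({u} : Set G)
  have hval : ∀ a : C, IsConj (⟨z, hzC⟩ : C) a → IsConj z (a : G) := fun a ha => C.subtype.map_isConj ha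
  have hcen : ∀ v : C, (v : G) ∈ M → ∀ x : C, x ∈ Subgroup.centralizer ({v} : Set C) →
      (x : G) ∈ Subgroup.centralizer ({(v : G)} : Set G) := fun v _ x hx =>
    Subgroup.mem_centralizer_singleton_iff.2 (congrArg Subtype.val (Subgroup.mem_centralizer_singleton_iff.1 hx))
  refine ⟨⟨⟨by rw [Subgroup.orderOf_mk]; exact hP.weakly.invol, fun g => ?_⟩, ?_, ?_, ?_⟩, ?_⟩
  · constructor
    · rintro ⟨y, hy, e⟩
      exact Subgroup.mem_subgroupOf.2 ((hP.weakly.weak (g : G)).1 ⟨y, hy, congrArg Subtype.val e⟩)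
    · intro hg
      refine ⟨g⁻¹ * ⟨z, hzC⟩ * g, Subgroup.mem_subgroupOf.2 ?_, ?_⟩
      · exact hP.weakly.mem_iff.2 (Subgroup.mem_subgroupOf.1 hg)
      · show g * (g⁻¹ * ⟨z, hzC⟩ * g) * g⁻¹ = _
        group
  · -- a Sylow subgroup of the centraliser fixes a conjugate of `z`
    obtain ⟨S⟩ := (inferInstance : Nonempty (Sylow 2 C))
    obtain ⟨P, hPz, -⟩ := hP.sylow_le
    have hodd : ¬ 2 ∣ Nat.card (G ⧸ Subgroup.centralizer ({z} : Set G)) := by
      rw [← Subgroup.index_eq_card]
      exact fun h => P.not_dvd_index (h.trans (Subgroup.index_dvd_of_le hPz))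
    obtain ⟨R, hR⟩ : ∃ R : Sylow 2 C, ((R : Subgroup C) ≤ Subgroup.centralizer {(⟨z, hzC⟩ : C)}) := by
      obtain ⟨p, hp⟩ := IsPGroup.nonempty_fixed_point_of_prime_not_dvd_card
        (p := 2) (G := (S : Subgroup C).map C.subtype) (S.isPGroup'.map C.subtype) _ hodd
      obtain ⟨g, rfl⟩ := QuotientGroup.mk_surjective p
      have hcomm : ∀ s ∈ (S : Subgroup C), Commute (g * z * g⁻¹) (s : G) := fun s hs => by
        have h1 : g⁻¹ * (s : G) * g ∈ Subgroup.centralizer ({z} : Set G) :=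
          smul_mk_eq_iff.1 (hp ⟨s, ⟨s, hs, rfl⟩⟩)
        have h2 := (show Commute (g⁻¹ * (s : G) * g) z from Subgroup.mem_centralizer_singleton_iff.1 h1).map
          (MulAut.conj g).toMonoidHom
        simp only [MulEquiv.coe_toMonoidHom, MulAut.conj_apply] at h2
        rw [show g * (g⁻¹ * (s : G) * g) * g⁻¹ = s by group] at h2
        exact h2.symm
      have huC : u ∈ C := Subgroup.mem_centralizer_singleton_iff.2 rfl
      have huS : (⟨u, huC⟩ : C) ∈ (S : Subgroup C) := by
        have hzp : IsPGroup 2 (Subgroup.zpowers (⟨u, huC⟩ : C)) :=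
          IsPGroup.of_card (n := 1) (by rw [Nat.card_zpowers, Subgroup.orderOf_mk, hu, pow_one])
        haveI : (Subgroup.zpowers (⟨u, huC⟩ : C)).Normal := ⟨fun y hy x => by
          obtain ⟨j, rfl⟩ := hy
          rw [← conj_zpow, show x * ⟨u, huC⟩ * x⁻¹ = (⟨u, huC⟩ : C) from mul_inv_eq_iff_eq_mul.2
            (Subtype.ext (Subgroup.mem_centralizer_singleton_iff.1 x.2))]
          exact Subgroup.zpow_mem_zpowers _ j⟩
        have h1 := S.is_maximal' (S.isPGroup'.to_sup_of_normal_right hzp) le_sup_left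
        exact h1.le (Subgroup.mem_sup_right (Subgroup.mem_zpowers _))
      obtain ⟨k, hk, hke⟩ := hP.class_in_centralizer huz hnle (isConj_iff.2 ⟨g, rfl⟩) (hcomm _ huS)
      set kC : C := ⟨k, Subgroup.mem_centralizer_singleton_iff.2 hk.eq⟩
      refine ⟨kC⁻¹ • S, fun x hx => ?_⟩
      rw [Sylow.coe_subgroup_smul] at hx
      obtain ⟨y, hy, rfl⟩ := hx
      refine Subgroup.mem_centralizer_singleton_iff.2 (Subtype.ext ?_)
      show k⁻¹ * (y : G) * k⁻¹⁻¹ * z = z * (k⁻¹ * (y : G) * k⁻¹⁻¹)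
      have h2 := hcomm y hy
      rw [← hke] at h2
      calc k⁻¹ * (y : G) * k⁻¹⁻¹ * z = k⁻¹ * ((y : G) * (k * z * k⁻¹)) * k := by group
        _ = _ := by rw [← h2.eq]; group
    refine ⟨R, ⟨⟨z, hzC⟩, ?_⟩, Subgroup.mem_center_iff.2 fun x => Subtype.ext ?_, rfl⟩
    · have hzp : IsPGroup 2 (Subgroup.zpowers (⟨z, hzC⟩ : C)) :=
        IsPGroup.of_card (n := 1) (by rw [Nat.card_zpowers, Subgroup.orderOf_mk, hP.weakly.invol, pow_one])
      have hle : (R : Subgroup C) ≤ Subgroup.normalizer (Subgroup.zpowers (⟨z, hzC⟩ : C) : Set C) := fun r hr =>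
        Subgroup.centralizer_le_normalizer _ (Subgroup.mem_centralizer_iff.2 fun y hy => by
          obtain ⟨j, rfl⟩ := hy
          exact ((show Commute r ⟨z, hzC⟩ from Subgroup.mem_centralizer_singleton_iff.1 (hR hr)).zpow_right j).symm.eq)
      have h1 := R.is_maximal' (R.isPGroup'.to_sup_of_normal_right' hzp hle) le_sup_left
      exact h1.le (Subgroup.mem_sup_right (Subgroup.mem_zpowers _))
    · exact Subgroup.mem_centralizer_singleton_iff.1 (hR x.2)
  · intro h
    exact hnle fun x hx => Subgroup.mem_subgroupOf.1 (show (⟨x, hx⟩ : C) ∈ M.subgroupOf C from h ▸ Subgroup.mem_top _)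
  · intro a b ha hb hab hne haM x hx
    have hab' : Commute (a : G) (b : G) := congrArg Subtype.val hab
    refine Subgroup.mem_subgroupOf.2 (hP.pair a b (hval a ha) (hval b hb) hab' (fun e => hne (Subtype.ext e))
      (Subgroup.mem_subgroupOf.1 haM) ?_)
    exact Subgroup.mem_centralizer_singleton_iff.2 (congrArg Subtype.val (Subgroup.mem_centralizer_singleton_iff.1 hx))
  · intro a b c ha hb hc hab hac hbc haM hw x hx
    refine Subgroup.mem_subgroupOf.2 (hP.triple a b c (hval a ha) (hval b hb) (hval c hc) (congrArg Subtype.val hab)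
      (congrArg Subtype.val hac) (congrArg Subtype.val hbc) (Subgroup.mem_subgroupOf.1 haM)
      (by rw [← hw, ← Subgroup.orderOf_coe]; rfl) ?_)
    exact Subgroup.mem_centralizer_singleton_iff.2 (congrArg Subtype.val (Subgroup.mem_centralizer_singleton_iff.1 hx))

/-- A central involution: the local hypothesis in the whole group. -/
theorem se_of_central {u : G} (hu : orderOf u = 2) (huc : u ∈ Subgroup.center G)
    (hIH : ∀ (Y : Type u) [Group Y] [Finite Y] (y : Y) (R : Subgroup Y), Nat.card Y < Nat.card G → Pure y R →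
      Cfsg.IsStronglyEmbedded (R.subgroupOf (Subgroup.normalClosure ({y} : Set Y)))) :
    Cfsg.IsStronglyEmbedded (M.subgroupOf (Subgroup.normalClosure ({z} : Set G))) := by
  haveI : Fact (Nat.Prime 2) := ⟨Nat.prime_two⟩
  have hW := hP.weakly
  have hz := hW.invol
  have hcu : ∀ x : G, x * u = u * x := fun x => Subgroup.mem_center_iff.1 huc x
  have huM : u ∈ M := hW.centralizer_le (Subgroup.mem_centralizer_singleton_iff.2 (hcu z).symm)
  have hzu : z ≠ u := fun e => hP.proper (top_le_iff.1 fun g _ => hW.centralizer_le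
    (Subgroup.mem_centralizer_singleton_iff.2 (by rw [e]; exact hcu g)))
  have huu := sq_one hu
  have hnd : ∀ a : G, IsConj z a → ¬ IsConj z (a * u) := by
    intro a ha h
    obtain ⟨g, rfl⟩ := isConj_iff.1 ha
    have h' : IsConj z (z * u) := h.trans (isConj_iff.2 ⟨g⁻¹, by
      rw [inv_inv, show g⁻¹ * (g * z * g⁻¹ * u) * g = z * (g⁻¹ * (u * g)) by group, ← hcu g, inv_mul_cancel_left]⟩)
    refine hP.proper (top_le_iff.1 fun x _ => hP.pair z (z * u) (IsConj.refl z) h'
      ((Commute.refl z).mul_right (hcu z)) (fun e => SEB.ne_one_of_invol hu (mul_left_cancel (a := z) (by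
        rw [mul_one]; exact e.symm))) hW.mem (Subgroup.mem_centralizer_singleton_iff.2 ?_))
    rw [show z * (z * u) = u by rw [← mul_assoc, sq_one hz, one_mul], hcu x]
  haveI : (Subgroup.zpowers u).Normal := ⟨fun s hs g => by
    obtain ⟨j, rfl⟩ := hs
    rw [← conj_zpow, hcu g, mul_inv_cancel_right]
    exact Subgroup.zpow_mem_zpowers u j⟩
  set π := QuotientGroup.mk' (Subgroup.zpowers u) with hπ
  have hker : π.ker = Subgroup.zpowers u := QuotientGroup.ker_mk' _
  have hone : ∀ x : G, π x = 1 → x = 1 ∨ x = u := fun x hx => by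
    obtain ⟨j, rfl⟩ := (show x ∈ Subgroup.zpowers u by rwa [← hker, MonoidHom.mem_ker])
    rcases Int.even_or_odd j with ⟨i, rfl⟩ | ⟨i, rfl⟩
    · exact Or.inl (by simp only; rw [← two_mul, zpow_mul, zpow_two, huu, one_zpow])
    · exact Or.inr (by simp only; rw [zpow_add, zpow_mul, zpow_two, huu, one_zpow, one_mul, zpow_one])
  have hπu : π u = 1 := by rw [← MonoidHom.mem_ker, hker]; exact Subgroup.mem_zpowers u
  have hπeq : ∀ x y : G, π x = π y → x = y ∨ x = y * u := fun x y e => by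
    rcases hone (y⁻¹ * x) (by rw [map_mul, map_inv, e, inv_mul_cancel]) with h | h
    · exact Or.inl (inv_mul_eq_one.1 h).symm
    · exact Or.inr (inv_mul_eq_iff_eq_mul.1 h)
  have hMmem : ∀ x : G, π x ∈ M.map π ↔ x ∈ M := fun x => by
    rw [← Subgroup.mem_comap, Subgroup.comap_map_eq, hker, sup_eq_left.2 (Subgroup.zpowers_le.2 huM)]
  have hπ2 : ∀ x : G, orderOf x = 2 → x ≠ u → orderOf (π x) = 2 := fun x hx hxu => orderOf_eq_prime
    (by rw [← map_pow, pow_two, sq_one hx, map_one])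
    fun e => (hone x e).elim (SEB.ne_one_of_invol hx) hxu
  have hlift : ∀ a, IsConj (π z) a → ∃ x, IsConj z x ∧ π x = a := fun a ha => by
    obtain ⟨g, rfl⟩ := isConj_iff.1 ha
    obtain ⟨g, rfl⟩ := QuotientGroup.mk'_surjective _ g
    exact ⟨g * z * g⁻¹, isConj_iff.2 ⟨g, rfl⟩, by rw [map_mul, map_mul, map_inv]⟩
  have hlc : ∀ a b : G, IsConj z a → IsConj z b → Commute (π a) (π b) → Commute a b := fun a b ha hb h => by
    have e : π (a * b * a⁻¹) = π b := by rw [map_mul, map_mul, map_inv, h.eq, mul_inv_cancel_right]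
    rcases hπeq _ _ e with h1 | h1
    · exact mul_inv_eq_iff_eq_mul.1 h1
    · exact absurd (hb.trans (isConj_iff.2 ⟨a, h1⟩)) (hnd b hb)
  -- centralisers in the quotient
  have hcent : ∀ x : G, orderOf x = 2 → x ∈ M → Subgroup.centralizer ({x} : Set G) ≤ M →
      ∀ g : G, π g * π x = π x * π g → g ∈ M := by
    intro x hx hxM hle g hg
    rcases hπeq (g * x * g⁻¹) x (by rw [map_mul, map_mul, map_inv, hg, mul_inv_cancel_right]) with h | h
    · exact hle (Subgroup.mem_centralizer_singleton_iff.2 (mul_inv_eq_iff_eq_mul.1 h))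
    · have h1 : g⁻¹ * x * g ∈ M := by
        have e : g⁻¹ * x * g = x * u := by
          calc g⁻¹ * x * g = g⁻¹ * (x * u * u) * g := by rw [mul_assoc x, huu, mul_one]
            _ = g⁻¹ * (g * x * g⁻¹ * u) * g := by rw [h]
            _ = x * (g⁻¹ * (u * g)) := by group
            _ = _ := by rw [← hcu g, inv_mul_cancel_left]
        rw [e]
        exact mul_mem hxM huM
      obtain ⟨h0, hh0, hc0⟩ := hP.exists_commuting (x := g⁻¹ * x * g) (by
        have := conj_involution hx g⁻¹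
        rwa [inv_inv] at this) h1
      have h2 : g * h0 * z * (g * h0)⁻¹ ∈ M := hle (Subgroup.mem_centralizer_singleton_iff.2 (by
        calc g * h0 * z * (g * h0)⁻¹ * x = g * ((h0 * z * h0⁻¹) * (g⁻¹ * x * g)) * g⁻¹ := by group
          _ = _ := by rw [hc0.eq]; group))
      have := mul_mem (hW.conj_mem_iff.1 h2) (inv_mem hh0)
      rwa [mul_inv_cancel_right] at this
  have hPq : Pure (π z) (M.map π) := by
    refine ⟨⟨⟨hπ2 z hz hzu, fun x => ?_⟩, ?_, fun h => hP.proper (top_le_iff.1 fun g _ => (hMmem g).1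
      (h ▸ Subgroup.mem_top _)), ?_⟩, ?_⟩
    · obtain ⟨g, rfl⟩ := QuotientGroup.mk'_surjective _ x
      rw [hMmem]
      constructor
      · rintro ⟨_, ⟨y, hy, rfl⟩, e⟩
        refine hW.mem_iff.1 ((hMmem _).1 ⟨y, hy, ?_⟩)
        have e' : π g * π y * (π g)⁻¹ = π z := e
        rw [map_mul, map_mul, map_inv, ← e']
        group
      · intro hg
        refine ⟨π (g⁻¹ * z * g), ⟨_, hW.mem_iff.2 hg, rfl⟩, ?_⟩
        show π g * π (g⁻¹ * z * g) * (π g)⁻¹ = π z
        rw [← map_inv, ← map_mul, ← map_mul]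
        congr 1
        group
    · obtain ⟨P, w, hw, e⟩ := hP.central
      refine ⟨P.mapSurjective (QuotientGroup.mk'_surjective _), ⟨π z, ⟨z, e ▸ w.2, rfl⟩⟩,
        Subgroup.mem_center_iff.2 fun x => Subtype.ext ?_, rfl⟩
      obtain ⟨y, hy, hyx⟩ := x.2
      show (x : G ⧸ Subgroup.zpowers u) * π z = π z * (x : G ⧸ Subgroup.zpowers u)
      rw [← hyx]
      show π y * π z = π z * π y
      rw [← map_mul, ← map_mul]
      refine congrArg π ?_
      rw [← e]
      exact congrArg Subtype.val (Subgroup.mem_center_iff.1 hw ⟨y, hy⟩)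
    · intro a b ha hb hab hne haM g hg
      obtain ⟨x, hx, rfl⟩ := hlift a ha
      obtain ⟨y, hy, rfl⟩ := hlift b hb
      obtain ⟨g, rfl⟩ := QuotientGroup.mk'_surjective _ g
      have hxy := hlc x y hx hy hab
      have hxM := (hMmem x).1 haM
      have hne' : x ≠ y := fun e => hne (congrArg π e)
      refine (hMmem g).2 (hcent (x * y) (orderOf_eq_prime
        (by rw [hxy.mul_pow, pow_two, pow_two, sq_one (hP.orderOf_conj hx), sq_one (hP.orderOf_conj hy), one_mul])
        fun e => hne' (by rw [eq_inv_of_mul_eq_one_left e, inv_self (hP.orderOf_conj hy)]))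
        (mul_mem hxM (hP.mem_of_commute hx hxM hxy.symm)) (hP.pair x y hx hy hxy hne' hxM) g ?_)
      rw [map_mul π x y]
      exact Subgroup.mem_centralizer_singleton_iff.1 hg
    · intro a b c ha hb hc hab hac hbc haM hw g hg
      obtain ⟨x, hx, rfl⟩ := hlift a ha
      obtain ⟨y, hy, rfl⟩ := hlift b hb
      obtain ⟨v, hv, rfl⟩ := hlift c hc
      obtain ⟨g, rfl⟩ := QuotientGroup.mk'_surjective _ g
      have hxy := hlc x y hx hy hab
      have hxv := hlc x v hx hv hac
      have hyv := hlc y v hy hv hbc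
      have hxM := (hMmem x).1 haM
      have hw2 : orderOf (x * y * v) = 2 := orderOf_eq_prime
        (by rw [(hxv.mul_left hyv).mul_pow, hxy.mul_pow, pow_two, pow_two, pow_two, sq_one (hP.orderOf_conj hx),
          sq_one (hP.orderOf_conj hy), sq_one (hP.orderOf_conj hv), one_mul, one_mul])
        fun e => by rw [← map_mul, ← map_mul, e, map_one, orderOf_one] at hw; omega
      refine (hMmem g).2 (hcent (x * y * v) hw2
        (mul_mem (mul_mem hxM (hP.mem_of_commute hx hxM hxy.symm)) (hP.mem_of_commute hx hxM hxv.symm))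
        (hP.triple x y v hx hy hv hxy hxv hyv hxM hw2) g ?_)
      rw [map_mul π (x * y) v, map_mul π x y]
      exact Subgroup.mem_centralizer_singleton_iff.1 hg
  have hlt : Nat.card (G ⧸ Subgroup.zpowers u) < Nat.card G := by
    rw [Subgroup.card_eq_card_quotient_mul_card_subgroup (Subgroup.zpowers u), Nat.card_zpowers, hu]
    exact lt_mul_of_one_lt_right Nat.card_pos (by norm_num)
  set K := Subgroup.normalClosure ({z} : Set G) with hK
  haveI : K.Normal := Subgroup.normalClosure_normal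
  have hzK : z ∈ K := Subgroup.subset_normalClosure (Set.mem_singleton z)
  obtain ⟨P, hPz, hzP⟩ := hP.sylow_le
  have hPM : (P : Subgroup G) ≤ M := hPz.trans hW.centralizer_le
  have hKne : ¬ K ≤ M := fun h => hP.proper (top_le_iff.1 fun g _ => by
    obtain ⟨k, hk, n, hn, rfl⟩ := hW.exists_mul hPM hzP hzK g
    exact mul_mem (h hk) hn)
  have hKM : K.map π ≤ Subgroup.normalClosure ({π z} : Set (G ⧸ Subgroup.zpowers u)) := by
    rw [Subgroup.map_le_iff_le_comap]
    haveI : ((Subgroup.normalClosure ({π z} : Set (G ⧸ Subgroup.zpowers u))).comap π).Normal :=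
      Subgroup.Normal.comap Subgroup.normalClosure_normal π
    exact Subgroup.normalClosure_le_normal (Set.singleton_subset_iff.2
      (Subgroup.subset_normalClosure (Set.mem_singleton (π z))))
  have hseK : Cfsg.IsStronglyEmbedded ((M.map π).subgroupOf (K.map π)) :=
    se_restrict hKM (hIH _ _ _ hlt hPq) (fun h => hKne fun k hk => (hMmem k).1 (h ⟨k, hk, rfl⟩)) (hπ2 z hz hzu)
      ⟨z, hzK, rfl⟩ ((hMmem z).2 hW.mem)
  have huK : u ∉ K := by
    intro huK
    have hclass : Subgroup.normalClosure ({⟨z, hzK⟩} : Set K) = ⊤ := by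
      refine hW.class_closure hPM hzP fun t htM htK htc => ?_
      have ht2 : orderOf (π t) = 2 := hπ2 _ (hP.orderOf_conj htc) fun e => hzu (by
        obtain ⟨g, rfl⟩ := isConj_iff.1 htc
        rw [mul_inv_eq_iff_eq_mul, ← hcu g] at e
        exact mul_left_cancel e)
      have hzm : π z ∈ K.map π := Subgroup.mem_map.2 ⟨z, hzK, rfl⟩
      have htm : π t ∈ K.map π := Subgroup.mem_map.2 ⟨_, htK, rfl⟩
      obtain ⟨⟨_, k, hk, rfl⟩, hkc⟩ := isConj_iff.1 (Fusion.SEPairs.involutions_conj hseK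
        (a := (⟨π z, hzm⟩ : K.map π)) (b := ⟨π t, htm⟩)
        (by rw [Subgroup.orderOf_mk]; exact hπ2 z hz hzu) (by rw [Subgroup.orderOf_mk]; exact ht2))
      have e : π (k * z * k⁻¹) = π t := by
        rw [map_mul, map_mul, map_inv]
        exact congrArg Subtype.val hkc
      exact ⟨k, hk, (hπeq _ _ e).resolve_right fun h => hnd t htc (h ▸ isConj_iff.2 ⟨k, rfl⟩)⟩
    have hcast : ∀ a : K, IsConj (⟨z, hzK⟩ : K) a → IsConj z (a : G) := fun a ha => K.subtype.map_isConj ha
    refine false_of_central (L := K) (Lb := K.map π) (u := ⟨u, huK⟩) (z := ⟨z, hzK⟩) (π := π.subgroupMap K)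
      ⟨by rw [Subgroup.orderOf_mk]; exact hu, by rw [Subgroup.orderOf_mk]; exact hz,
        Subgroup.mem_center_iff.2 fun x => Subtype.ext (hcu x), hclass,
        fun h => hnd z (IsConj.refl z) (hcast _ h), fun a b ha hb hab h => ?_, π.subgroupMap_surjective K, ?_⟩ hseK
    · obtain ⟨g₁, hg₁⟩ := isConj_iff.1 (hcast a ha)
      have hab' : Commute (a : G) (b : G) := congrArg Subtype.val hab
      have hcc : IsConj z ((a : G) * b * u) := hcast _ h
      let f := (MulAut.conj g₁⁻¹).toMonoidHom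
      have hf : ∀ x : G, f x = g₁⁻¹ * x * g₁ := fun x => by
        show g₁⁻¹ * x * g₁⁻¹⁻¹ = _
        rw [inv_inv]
      have hfa : f a = z := by rw [hf, ← hg₁]; group
      have hfu : f u = u := by rw [hf, mul_assoc, ← hcu g₁, inv_mul_cancel_left]
      have hzz : IsConj z (f a) := hfa ▸ IsConj.refl z
      have hbz : IsConj z (f b) := (hcast b hb).trans (isConj_iff.2 ⟨g₁⁻¹, rfl⟩)
      have hcz : IsConj z (f ((a : G) * b * u)) := hcc.trans (isConj_iff.2 ⟨g₁⁻¹, rfl⟩)
      have hca : Commute (a : G) ((a : G) * b * u) := ((Commute.refl _).mul_right hab').mul_right (hcu _)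
      have hcb : Commute (b : G) ((a : G) * b * u) := (hab'.symm.mul_right (Commute.refl _)).mul_right (hcu _)
      have hprod : f a * f b * f ((a : G) * b * u) = u := by
        rw [← map_mul, ← map_mul]
        rw [show (a : G) * b * ((a : G) * b * u) = ((a : G) * b) * ((a : G) * b) * u by group, ← pow_two,
          hab'.mul_pow, pow_two, pow_two, sq_one (hP.orderOf_conj (hcast a ha)),
          sq_one (hP.orderOf_conj (hcast b hb)), one_mul, one_mul, hfu]
      have h3 := hP.triple _ _ _ hzz hbz hcz (hab'.map f) (hca.map f) (hcb.map f) (hfa.symm ▸ hW.mem)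
        (by rw [hprod]; exact hu)
      rw [hprod] at h3
      exact hP.proper (top_le_iff.1 fun x _ => h3 (Subgroup.mem_centralizer_singleton_iff.2 (hcu x)))
    · refine le_antisymm (fun x hx => ?_) (Subgroup.zpowers_le.2 (Subtype.ext hπu))
      rcases hone (x : G) (congrArg Subtype.val (MonoidHom.mem_ker.1 hx)) with h | h
      · rw [show x = 1 from Subtype.ext h]; exact one_mem _
      · rw [show x = ⟨u, huK⟩ from Subtype.ext h]; exact Subgroup.mem_zpowers _
  refine se_in hKne hz hzK hW.mem fun g hg hgM t htK ht htM htg => ?_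
  refine no_invol_of_se hseK ⟨g, hg, rfl⟩ (fun h => hgM ((hMmem g).1 h)) ⟨t, htK, rfl⟩
    (hπ2 t ht fun e => huK (e ▸ htK)) ((hMmem t).2 htM) ?_
  rw [← map_inv, ← map_mul, ← map_mul]
  exact (hMmem _).2 htg

end Pure

/-- **The criterion for a pure two-central involution.** -/
theorem pure_concl (crit : Crit.{u}) (G : Type u) [Group G] [Finite G] (z : G) (M : Subgroup G) (hP : Pure z M) :
    Cfsg.IsStronglyEmbedded (M.subgroupOf (Subgroup.normalClosure ({z} : Set G))) := by
  suffices key : ∀ n, ∀ (X : Type u) [Group X] [Finite X] (x : X) (R : Subgroup X), Nat.card X < n → Pure x R →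
      Cfsg.IsStronglyEmbedded (R.subgroupOf (Subgroup.normalClosure ({x} : Set X))) from
    key (Nat.card G + 1) G z M (Nat.lt_succ_self _) hP
  intro n
  induction n with
  | zero => intro X _ _ x R h; exact absurd h (Nat.not_lt_zero _)
  | succ n ih =>
    intro X _ _ z M hX hP
    have hW := hP.weakly
    refine crit X z M ⟨hW.invol, hP.central, hP.proper, hW.weak, fun u hu huz hnle => ?_⟩
    set C := Subgroup.centralizer ({u} : Set X) with hC
    by_cases hCtop : C = ⊤
    · have huc : u ∈ Subgroup.center X := Subgroup.mem_center_iff.2 fun g =>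
        Subgroup.mem_centralizer_singleton_iff.1 (show g ∈ C from hCtop.symm ▸ Subgroup.mem_top g)
      have hLK : Lu z u ≤ Subgroup.normalClosure ({z} : Set X) :=
        (Subgroup.closure_le _).2 fun x hx =>
          Subgroup.conjugatesOfSet_subset_normalClosure (Group.mem_conjugatesOfSet_iff.2 ⟨z, rfl, hx.1⟩)
      have hKL : Subgroup.normalClosure ({z} : Set X) ≤ Lu z u := (Subgroup.closure_le _).2 fun x hx => by
        obtain ⟨w, hw, hwx⟩ := Group.mem_conjugatesOfSet_iff.1 hx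
        rw [Set.mem_singleton_iff] at hw
        exact mem_Lu (hw ▸ hwx) (Subgroup.mem_center_iff.1 huc x)
      rw [le_antisymm hLK hKL]
      exact hP.se_of_central hu huc fun Y _ _ y R hY hR =>
        ih Y y R (lt_of_lt_of_le hY (Nat.lt_succ_iff.1 hX)) hR
    have hzC : z ∈ C := Subgroup.mem_centralizer_singleton_iff.2 huz.symm
    have hlt : Nat.card C < n := lt_of_lt_of_le
      (lt_of_le_of_ne (Subgroup.card_le_card_group C) fun e => hCtop (Subgroup.eq_top_of_card_eq C e))
      (Nat.lt_succ_iff.1 hX)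
    have hse := ih C _ _ hlt (hP.to_centralizer hu (show Commute z u from huz.symm) hnle hzC)
    set K := Subgroup.normalClosure ({⟨z, hzC⟩} : Set C)
    obtain ⟨c₀, hc₀C, hc₀M⟩ := SetLike.not_le_iff_exists.1 hnle
    have hLM : Lu z u ≤ K.map C.subtype := by
      refine (Subgroup.closure_le _).2 fun x hx => ?_
      obtain ⟨k, hk, hke⟩ := hP.class_in_centralizer (show Commute z u from huz.symm) hnle hx.1 hx.2
      refine ⟨(⟨k, Subgroup.mem_centralizer_singleton_iff.2 hk.eq⟩ : C) * ⟨z, hzC⟩ *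
        (⟨k, Subgroup.mem_centralizer_singleton_iff.2 hk.eq⟩ : C)⁻¹, Subgroup.normalClosure_normal.conj_mem _
          (Subgroup.subset_normalClosure (Set.mem_singleton _)) _, ?_⟩
      exact hke
    refine se_in (fun h => hc₀M ?_) hW.invol (mem_Lu (IsConj.refl z) huz.symm) hW.mem
      fun g hg hgM t ht ht2 htM htg => ?_
    · have h1 : Commute c₀ u := Subgroup.mem_centralizer_singleton_iff.1 hc₀C
      exact hW.conj_mem_iff.1 (h (mem_Lu (isConj_iff.2 ⟨c₀, rfl⟩) ((h1.mul_left huz.symm).mul_left h1.inv_left)))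
    · obtain ⟨g', hg', rfl⟩ := hLM hg
      obtain ⟨t', ht', rfl⟩ := hLM ht
      exact no_invol_of_se hse hg' (fun h => hgM (Subgroup.mem_subgroupOf.1 h)) ht'
        (by rwa [← Subgroup.orderOf_coe]) (Subgroup.mem_subgroupOf.2 htM) (Subgroup.mem_subgroupOf.2 htg)

/-- The statement S1175 from the criterion. -/
theorem pair_simple_concl (crit : Crit.{u}) [IsSimpleGroup G] (M : Subgroup G) (hM : M ≠ ⊤) (z : G)
    (hz : orderOf z = 2) (hzM : z ∈ M) (h1 : ∃ S : Sylow 2 G, z ∈ S ∧ ∀ s ∈ S, Commute s z)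
    (h2 : ∀ g : G, g * z * g⁻¹ ∈ M → g ∈ M)
    (h3 : ∀ g : G, Commute z (g * z * g⁻¹) → g * z * g⁻¹ ≠ z →
      Subgroup.centralizer ({z * (g * z * g⁻¹)} : Set G) ≤ M) :
    ∃ H : Subgroup G, Cfsg.IsStronglyEmbedded H := by
  have hW : Weak z M := ⟨hz, fun g => ⟨fun ⟨y, hy, e⟩ => by
      refine inv_mem_iff.1 (h2 g⁻¹ ?_)
      rw [← e]
      convert hy using 1
      simp [mul_assoc],
    fun hg => ⟨g⁻¹ * z * g, mul_mem (mul_mem (inv_mem hg) hzM) hg,
      by show g * (g⁻¹ * z * g) * g⁻¹ = z; group⟩⟩⟩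
  obtain ⟨S, hzS, hS⟩ := h1
  have hPP : PairPure z M := ⟨hW, ⟨S, ⟨z, hzS⟩, Subgroup.mem_center_iff.2 fun x => Subtype.ext (hS x x.2).eq, rfl⟩,
    hM, fun a b ha hb hab hne haM x hx => by
      obtain ⟨g, rfl⟩ := isConj_iff.1 ha
      obtain ⟨h, rfl⟩ := isConj_iff.1 hb
      have hg := h2 g haM
      have hc := hab.map (MulAut.conj g⁻¹).toMonoidHom
      simp only [MulEquiv.coe_toMonoidHom, MulAut.conj_apply, inv_inv] at hc
      rw [show g⁻¹ * (g * z * g⁻¹) * g = z by group,
        show g⁻¹ * (h * z * h⁻¹) * g = g⁻¹ * h * z * (g⁻¹ * h)⁻¹ by group] at hc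
      have hle := h3 (g⁻¹ * h) hc (fun e => hne (by
        rw [show h * z * h⁻¹ = g * (g⁻¹ * h * z * (g⁻¹ * h)⁻¹) * g⁻¹ by group, e]))
      have h4 : g⁻¹ * x * g ∈ M := hle (Subgroup.mem_centralizer_singleton_iff.2 (by
        have h5 := Subgroup.mem_centralizer_singleton_iff.1 hx
        calc g⁻¹ * x * g * (z * (g⁻¹ * h * z * (g⁻¹ * h)⁻¹)) = g⁻¹ * (x * (g * z * g⁻¹ * (h * z * h⁻¹))) * g := by group
          _ = _ := by rw [h5]; group))
      have := mul_mem (mul_mem hg h4) (inv_mem hg)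
      rwa [show g * (g⁻¹ * x * g) * g⁻¹ = x by group] at this⟩
  have hcore : M.normalCore = ⊥ := (M.normalCore_normal).eq_bot_or_eq_top.resolve_right
    fun h => hM (top_le_iff.1 (h ▸ M.normalCore_le))
  have h := pure_concl crit G z M (hPP.pure_of_faithful hcore)
  have htop : Subgroup.normalClosure ({z} : Set G) = ⊤ :=
    Subgroup.normalClosure_normal.eq_bot_or_eq_top.resolve_left fun e => SEB.ne_one_of_invol hz
      (Subgroup.mem_bot.1 (e ▸ Subgroup.subset_normalClosure (Set.mem_singleton z)))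
  rw [htop] at h
  exact ⟨M, se_of_top h⟩

end Cfsg.Agent.SECrit
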